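import Groth.Agent.AgSymm.Collapse
import Mathlib.AlgebraicGeometry.AlgClosed.Basic
import Mathlib.AlgebraicGeometry.Morphisms.QuasiFinite
import Mathlib.AlgebraicGeometry.ZariskisMainTheorem
import Mathlib.CategoryTheory.Monoidal.Cartesian.Over

/-!
Homomorphisms of proper group schemes with finitely many geometric kernel points are finite.
-/

set_option autoImplicit false
set_option backward.isDefEq.respectTransparency false
set_option backward.isDefEq.respectTransparency.types false
set_option linter.style.haveILetI false

universe u

open CategoryTheory MonoidalCategory CartesianMonoidalCategory MonObj GrpObj AlgebraicGeometry TopologicalSpace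

noncomputable section

namespace Groth.Agent.AgDual

variable {S : Scheme.{u}}

/-- A Jacobson space with finitely many closed points is finite. -/
theorem finite_of_closedPoints {X : Type*} [TopologicalSpace X] [JacobsonSpace X] (h : (closedPoints X).Finite) :
    Finite X := by
  have hall : closedPoints X = Set.univ := by
    have hc : IsClosed (closedPoints X) := by
      rw [← Set.biUnion_of_singleton (closedPoints X)]
      exact h.isClosed_biUnion fun y hy => hy
    rw [← hc.closure_eq, closure_closedPoints]
  exact Set.finite_univ_iff.1 (hall ▸ h)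

/-- A finite scheme has finitely many geometric points over each point of the base. -/
theorem finite_hom_of_isFinite {N : Over S} [IsFinite N.hom] {Ω : Type u} [Field Ω] [IsAlgClosed Ω]
    (τ : Spec (CommRingCat.of Ω) ⟶ S) : Finite (Over.mk τ ⟶ N) := by
  let p := Limits.pullback.snd N.hom τ
  haveI : Subsingleton (Spec (CommRingCat.of Ω)) := inferInstanceAs (Subsingleton (PrimeSpectrum Ω))
  haveI : Finite ↥(Limits.pullback N.hom τ) := by
    refine Set.finite_univ_iff.1 ((p.finite_preimage_singleton (IsLocalRing.closedPoint Ω)).subset fun x _ => ?_)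
    exact Subsingleton.elim (α := Spec (CommRingCat.of Ω)) _ _
  haveI : Finite {s : Spec (CommRingCat.of Ω) ⟶ Limits.pullback N.hom τ // s ≫ p = 𝟙 _} :=
    Finite.of_equiv _ (pointEquivClosedPoint p).symm
  refine Finite.of_injective (β := {s : Spec (CommRingCat.of Ω) ⟶ Limits.pullback N.hom τ // s ≫ p = 𝟙 _})
    (fun a => ⟨Limits.pullback.lift a.left (𝟙 _) ((Over.w a).trans (Category.id_comp τ).symm),
      Limits.pullback.lift_snd _ _ _⟩) fun a b h => Over.OverMorphism.ext ?_
  have := congrArg (fun s => s.1 ≫ Limits.pullback.fst N.hom τ) h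
  simpa using this

variable {G H : Over S} [GrpObj G] [GrpObj H]

/-- Finitely many geometric kernel points make a homomorphism of proper group schemes finite. -/
theorem isFinite_of_kernel_points [IsProper G.hom] [IsSeparated H.hom] (f : G ⟶ H) [IsMonHom f]
    (h : ∀ (Ω : Type u) [Field Ω] [IsAlgClosed Ω] (τ : Spec (CommRingCat.of Ω) ⟶ S),
      {a : Over.mk τ ⟶ G | a ≫ f = 1}.Finite) : IsFinite f.left := by
  haveI : IsProper (f.left ≫ H.hom) := by rw [Over.w f]; infer_instance
  haveI : IsProper f.left := IsProper.of_comp f.left H.hom
  refine (IsFinite.iff_isProper_and_locallyQuasiFinite f.left).2 ⟨inferInstance, ?_⟩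
  refine LocallyQuasiFinite.of_finite_preimage_singleton f.left fun q => ?_
  obtain ⟨Ω, _, _, a0, ha0⟩ := AgSymm.exists_geometric q
  let p := Limits.pullback.snd f.left a0
  let τ := a0 ≫ H.hom
  haveI : JacobsonSpace ↥(Limits.pullback f.left a0) := LocallyOfFiniteType.jacobsonSpace p
  haveI : Finite ↥(Limits.pullback f.left a0) := by
    refine finite_of_closedPoints ?_
    rw [← Set.finite_coe_iff]
    haveI : Finite {s : Spec (CommRingCat.of Ω) ⟶ Limits.pullback f.left a0 // s ≫ p = 𝟙 _} := by
      let x : Over.mk τ ⟶ H := Over.homMk a0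
      let toPt : {s : Spec (CommRingCat.of Ω) ⟶ Limits.pullback f.left a0 // s ≫ p = 𝟙 _} →
          {a : Over.mk τ ⟶ G // a ≫ f = x} := fun s =>
        ⟨Over.homMk (s.1 ≫ Limits.pullback.fst _ _) (by
            rw [← Over.w f, Category.assoc, Limits.pullback.condition_assoc, ← Category.assoc, s.2]
            exact Category.id_comp _),
          Over.OverMorphism.ext (by
            rw [Over.comp_left]
            simp only [Over.homMk_left, Category.assoc, x]
            rw [Limits.pullback.condition, ← Category.assoc, s.2]
            exact Category.id_comp _)⟩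
      have hinj : Function.Injective toPt := fun s t hst => Subtype.ext (Limits.pullback.hom_ext
        (congrArg (fun a : {a : Over.mk τ ⟶ G // a ≫ f = x} => a.1.left) hst) (s.2.trans t.2.symm))
      haveI : Finite {a : Over.mk τ ⟶ G // a ≫ f = x} := by
        rcases isEmpty_or_nonempty {a : Over.mk τ ⟶ G // a ≫ f = x} with he | ⟨⟨b, hb⟩⟩
        · infer_instance
        haveI := (h Ω τ).to_subtype
        refine Finite.of_injective (β := {a : Over.mk τ ⟶ G | a ≫ f = 1})
          (fun a => ⟨a.1 * b⁻¹, show _ = _ by rw [MonObj.mul_comp, GrpObj.inv_comp, a.2, hb, mul_inv_cancel]⟩)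
          fun a a' e => Subtype.ext (mul_right_cancel (congrArg Subtype.val e))
      exact Finite.of_injective toPt hinj
    exact Finite.of_equiv _ (pointEquivClosedPoint p)
  refine (Set.finite_range (Limits.pullback.fst f.left a0)).subset fun x hx => ?_
  obtain ⟨z, hz, -⟩ := Scheme.Pullback.exists_preimage_pullback (f := f.left) (g := a0) x
    (IsLocalRing.closedPoint Ω) ((Set.mem_singleton_iff.1 hx).trans (ha0 _).symm)
  exact ⟨z, hz⟩

end Groth.Agent.AgDual
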